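import Mathlib
import Groth.Agent.HomDimLib.RegParam
import Groth.Agent.RegLoc6.Basic

/-!
# An ideal with regular quotient in a regular local ring
-/

set_option autoImplicit false

universe u

open IsLocalRing

namespace H1JacPS

variable {R : Type u} [CommRing R] [IsRegularLocalRing R]

/-- An ideal with regular quotient is generated by any part of a regular system of parameters
inside it that generates it modulo the square of the maximal ideal. -/
theorem eq_span_of_regular_quot (Q : Ideal R) [IsRegularLocalRing (R ⧸ Q)] {m : ℕ}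
    (f : Fin m → maximalIdeal R) (hf : ∀ i, (f i : R) ∈ Q)
    (hli : LinearIndependent (ResidueField R) fun i => (maximalIdeal R).toCotangent (f i))
    (hQ : Q ≤ Ideal.span (Set.range fun i => (f i : R)) ⊔ maximalIdeal R ^ 2) :
    Q = Ideal.span (Set.range fun i => (f i : R)) := by
  classical
  set J := Ideal.span (Set.range fun i => (f i : R)) with hJ
  have hJQ : J ≤ Q := Ideal.span_le.2 (by rintro _ ⟨i, rfl⟩; exact hf i)
  obtain ⟨hdim, hregJ⟩ := (Groth.Agent.HomDimLib.regular_and_independent_iff f).1 ⟨inferInstance, hli⟩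
  haveI := hregJ
  have hQm : Q ≤ maximalIdeal R := by
    refine le_maximalIdeal fun h => ?_
    haveI : Subsingleton (R ⧸ Q) := Ideal.Quotient.subsingleton_iff.2 h
    exact not_subsingleton (R ⧸ Q) ‹_›
  -- the embedding dimension of the quotient
  have hfg : (maximalIdeal (R ⧸ Q)).FG := IsNoetherian.noetherian _
  set t := (maximalIdeal (R ⧸ Q)).generators with ht
  have hts : Submodule.span (R ⧸ Q) t = maximalIdeal (R ⧸ Q) := (maximalIdeal (R ⧸ Q)).span_generators
  have htfin : t.Finite := Submodule.FG.finite_generators hfg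
  have hgen : maximalIdeal R ≤
      Ideal.span (Function.surjInv (Ideal.Quotient.mk_surjective (I := Q)) '' t) ⊔ Q := by
    have h1 : (Ideal.span (Function.surjInv (Ideal.Quotient.mk_surjective (I := Q)) '' t)).map
        (Ideal.Quotient.mk Q) = maximalIdeal (R ⧸ Q) := by
      rw [Ideal.map_span, ← Set.image_comp, Function.comp_surjInv, Set.image_id]
      exact hts
    intro x hx
    have hx' : Ideal.Quotient.mk Q x ∈ maximalIdeal (R ⧸ Q) :=
      (Groth.Agent.RegLoc6.map_maximalIdeal_quot (R := R) Q).le (Ideal.mem_map_of_mem _ hx)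
    rw [← h1, Ideal.mem_quotient_iff_mem_sup] at hx'
    exact hx'
  set g := Function.surjInv (Ideal.Quotient.mk_surjective (I := Q)) '' t with hg
  have hgfin : g.Finite := htfin.image _
  have hle : maximalIdeal R ≤ Ideal.span (g ∪ Set.range fun i => (f i : R)) := by
    refine Submodule.le_of_le_smul_of_le_jacobson_bot (I := maximalIdeal R)
      (IsNoetherian.noetherian _) (le_of_eq (jacobson_eq_maximalIdeal ⊥ bot_ne_top).symm) ?_
    refine hgen.trans (sup_le (le_sup_of_le_left (Ideal.span_mono Set.subset_union_left)) ?_)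
    refine hQ.trans (sup_le (le_sup_of_le_left (Ideal.span_mono Set.subset_union_right)) ?_)
    rw [pow_two]
    exact le_sup_right
  have hcount : (maximalIdeal R).spanFinrank ≤ (maximalIdeal (R ⧸ Q)).spanFinrank + m := by
    have hfin : (g ∪ Set.range fun i => (f i : R)).Finite := hgfin.union (Set.finite_range _)
    have hgm : g ⊆ (maximalIdeal R : Set R) := by
      rintro _ ⟨y, hy, rfl⟩
      by_contra hu
      have hu' : IsUnit (Function.surjInv (Ideal.Quotient.mk_surjective (I := Q)) y) :=
        notMem_maximalIdeal.1 hu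
      have h2 := hu'.map (Ideal.Quotient.mk Q)
      rw [Function.surjInv_eq Ideal.Quotient.mk_surjective y] at h2
      exact (mem_maximalIdeal _).1 (hts.le (Submodule.subset_span hy)) h2
    have heq : maximalIdeal R = Ideal.span (g ∪ Set.range fun i => (f i : R)) := by
      refine le_antisymm hle (Ideal.span_le.2 (Set.union_subset hgm ?_))
      rintro _ ⟨i, rfl⟩
      exact (f i).2
    rw [heq]
    refine (Submodule.spanFinrank_span_le_ncard_of_finite hfin).trans ?_
    refine (Set.ncard_union_le _ _).trans (add_le_add ?_ ?_)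
    · refine (Set.ncard_image_le htfin).trans (le_of_eq ?_)
      exact Submodule.FG.generators_ncard hfg
    · rw [← Set.image_univ]
      exact (Set.ncard_image_le Set.finite_univ).trans (by simp [Set.ncard_univ])
  -- compare dimensions in the domain `R ⧸ J`
  by_contra hne
  have hlt : J < Q := lt_of_le_of_ne hJQ (Ne.symm hne)
  obtain ⟨x, hxQ, hxJ⟩ := SetLike.exists_of_lt hlt
  haveI : IsDomain (R ⧸ J) := Groth.Agent.RegLoc6.isDomain_of_isRegularLocalRing _
  have hx0 : Ideal.Quotient.mk J x ∈ nonZeroDivisors (R ⧸ J) :=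
    mem_nonZeroDivisors_of_ne_zero fun h => hxJ (Ideal.Quotient.eq_zero_iff_mem.1 h)
  have hstrict := ringKrullDim_quotient_succ_le_of_nonZeroDivisor hx0
  have hsur : ringKrullDim (R ⧸ Q) ≤ ringKrullDim ((R ⧸ J) ⧸ Ideal.span {Ideal.Quotient.mk J x}) := by
    refine ringKrullDim_le_of_surjective (Ideal.Quotient.lift _ (Ideal.Quotient.factor hJQ) ?_) ?_
    · intro a ha
      obtain ⟨c, rfl⟩ := Ideal.mem_span_singleton'.1 ha
      rw [map_mul, Ideal.Quotient.factor_mk, Ideal.Quotient.eq_zero_iff_mem.2 hxQ, mul_zero]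
    · intro y
      obtain ⟨a, rfl⟩ := Ideal.Quotient.mk_surjective y
      exact ⟨Ideal.Quotient.mk _ (Ideal.Quotient.mk J a), rfl⟩
  have h1 : ringKrullDim (R ⧸ Q) + 1 + (m : WithBot ℕ∞) ≤ ringKrullDim R := by
    rw [← hdim]
    exact add_le_add ((add_le_add hsur le_rfl).trans hstrict) le_rfl
  rw [← (isRegularLocalRing_iff (R ⧸ Q)).1 inferInstance, ← (isRegularLocalRing_iff R).1 inferInstance] at h1
  have h2 : (maximalIdeal (R ⧸ Q)).spanFinrank + 1 + m ≤ (maximalIdeal R).spanFinrank := by
    exact_mod_cast h1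
  omega

end H1JacPS
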