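import Mathlib
import Groth.Agent.ArSingLib.Basic
import Groth.Agent.PSLib.Regular

/-!
# The Jacobian rank of a prime of a power series ring

If `k⟦T⟧/p` is finite over `k⟦X₁,…,X_s⟧` with separable extension of fraction fields, then the
gradients of the elements of `p` span a space of dimension at least `r - s` at `p`.
-/

set_option autoImplicit false

universe u

open MvPowerSeries

namespace H1JacPS

variable {k : Type u} [Field k] {r : ℕ} (p : Ideal (MvPowerSeries (Fin r) k))
  (L : Type u) [Field L] [Algebra (MvPowerSeries (Fin r) k ⧸ p) L]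

/-- The gradient at `p`. -/
noncomputable def jvec (f : MvPowerSeries (Fin r) k) : Fin r → L :=
  fun i => algebraMap (MvPowerSeries (Fin r) k ⧸ p) L (Ideal.Quotient.mk p (pderiv k i f))

theorem jvec_add (f g : MvPowerSeries (Fin r) k) : jvec p L (f + g) = jvec p L f + jvec p L g := by
  funext i; simp [jvec]

theorem jvec_sum {ι : Type*} (t : Finset ι) (f : ι → MvPowerSeries (Fin r) k) :
    jvec p L (∑ i ∈ t, f i) = ∑ i ∈ t, jvec p L (f i) := by
  funext j; simp [jvec, Finset.sum_apply]

theorem jvec_mul (a f : MvPowerSeries (Fin r) k) (hf : f ∈ p) :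
    jvec p L (a * f) = algebraMap (MvPowerSeries (Fin r) k ⧸ p) L (Ideal.Quotient.mk p a) • jvec p L f := by
  funext i
  simp only [jvec, Derivation.leibniz, smul_eq_mul, map_add, map_mul, Pi.smul_apply,
    Ideal.Quotient.eq_zero_iff_mem.2 hf, map_zero, zero_mul, add_zero]

theorem jvec_sq {f : MvPowerSeries (Fin r) k} (hf : f ∈ p ^ 2) : jvec p L f = 0 := by
  rw [pow_two] at hf
  induction hf using Submodule.mul_induction_on' with
  | mem_mul_mem a ha b hb =>
    rw [jvec_mul p L a b hb, Ideal.Quotient.eq_zero_iff_mem.2 ha, map_zero, zero_smul]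
  | add a _ b _ ha hb => rw [jvec_add, ha, hb, add_zero]

/-- The span of the gradients of `p`. -/
noncomputable def jspan : Submodule L (Fin r → L) :=
  Submodule.span L (jvec p L '' (p : Set (MvPowerSeries (Fin r) k)))

/-- A derivation into a finite module over a power series ring which kills the variables is zero. -/
theorem derivation_eq_zero {s : ℕ} {M : Type u} [AddCommGroup M] [Module (MvPowerSeries (Fin s) k) M]
    [Module k M] [IsScalarTower k (MvPowerSeries (Fin s) k) M] [Module.Finite (MvPowerSeries (Fin s) k) M]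
    (D : Derivation k (MvPowerSeries (Fin s) k) M) (hD : ∀ j, D (X j) = 0) : D = 0 := by
  classical
  let m := IsLocalRing.maximalIdeal (MvPowerSeries (Fin s) k)
  have hpow : ∀ n, ∀ g ∈ m ^ (n + 1), D g ∈ m ^ n • (⊤ : Submodule (MvPowerSeries (Fin s) k) M) := by
    intro n
    induction n with
    | zero => intro g _; simp
    | succ n ih =>
      intro g hg
      rw [pow_succ] at hg
      induction hg using Submodule.mul_induction_on' with
      | mem_mul_mem a ha b hb =>
        rw [Derivation.leibniz]
        refine add_mem (Submodule.smul_mem_smul ha trivial) ?_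
        have h1 := Submodule.smul_mem_smul hb (ih a ha)
        rwa [← Submodule.smul_assoc, smul_eq_mul, ← pow_succ'] at h1
      | add a _ b _ ha hb => rw [map_add]; exact add_mem ha hb
  ext g
  have hmem : ∀ n, D g ∈ m ^ n • (⊤ : Submodule (MvPowerSeries (Fin s) k) M) := by
    intro n
    obtain ⟨q, hq⟩ := Groth.Agent.PSLib.exists_polynomial_sub_mem g (n + 1)
    have hDq : D (q : MvPowerSeries (Fin s) k) = 0 := by
      induction q using MvPolynomial.induction_on generalizing g with
      | C a =>
        rw [MvPolynomial.coe_C, show (C a : MvPowerSeries (Fin s) k) = algebraMap k _ a by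
          simp [MvPowerSeries.algebraMap_apply], Derivation.map_algebraMap]
      | add a b ha hb =>
        rw [MvPolynomial.coe_add, map_add]
        rw [ha a (by simp), hb b (by simp), add_zero]
      | mul_X a i ha =>
        rw [MvPolynomial.coe_mul, Derivation.leibniz, MvPolynomial.coe_X, hD, smul_zero,
          ha a (by simp), smul_zero, add_zero]
    have hq' : g - (q : MvPowerSeries (Fin s) k) ∈ m ^ (n + 1) := by
      rw [show m = Groth.Agent.PSLib.vars s k from Groth.Agent.PSLib.maximalIdeal_eq_vars k s]; exact hq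
    have := hpow n _ hq'
    rwa [map_sub, hDq, sub_zero] at this
  have h0 : D g ∈ (⨅ n : ℕ, m ^ n • (⊤ : Submodule (MvPowerSeries (Fin s) k) M)) :=
    Submodule.mem_iInf _ |>.2 hmem
  rw [Ideal.iInf_pow_smul_eq_bot_of_isLocalRing _ (IsLocalRing.maximalIdeal.isMaximal _).ne_top,
    Submodule.mem_bot] at h0
  exact h0

variable [p.IsPrime] {s : ℕ} [Algebra (MvPowerSeries (Fin s) k) (MvPowerSeries (Fin r) k ⧸ p)]
  [IsScalarTower k (MvPowerSeries (Fin s) k) (MvPowerSeries (Fin r) k ⧸ p)]
  [Module.Finite (MvPowerSeries (Fin s) k) (MvPowerSeries (Fin r) k ⧸ p)]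
  (L' : Type u) [Field L'] [Algebra (MvPowerSeries (Fin s) k) L'] [IsFractionRing (MvPowerSeries (Fin s) k) L']
  [IsFractionRing (MvPowerSeries (Fin r) k ⧸ p) L]
  [Algebra L' L] [Algebra (MvPowerSeries (Fin s) k) L]
  [IsScalarTower (MvPowerSeries (Fin s) k) (MvPowerSeries (Fin r) k ⧸ p) L]
  [IsScalarTower (MvPowerSeries (Fin s) k) L' L] [Algebra.IsSeparable L' L]

include L' in
theorem le_finrank_jspan : r ≤ s + Module.finrank L (jspan p L) := by
  classical
  let Φ := algebraMap (MvPowerSeries (Fin s) k) (MvPowerSeries (Fin r) k ⧸ p)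
  let e : (Fin r → L) ≃ₗ[L] Module.Dual L (Fin r → L) := dotProductEquiv L (Fin r)
  let V : Submodule L (Fin r → L) := (jspan p L).dualAnnihilator.comap e.toLinearMap
  have hV : ∀ v ∈ V, ∀ f ∈ p, dotProduct v (jvec p L f) = 0 := fun v hv f hf =>
    (Submodule.mem_dualAnnihilator _).1 hv _ (Submodule.subset_span ⟨f, hf, rfl⟩)
  choose x hx using fun j : Fin s => Ideal.Quotient.mk_surjective (Φ (X j))
  let T : V →ₗ[L] (Fin s → L) := LinearMap.pi fun j =>
    ((dotProductEquiv L (Fin r)).toLinearMap.flip (jvec p L (x j))).comp V.subtype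
  have hT : ∀ (v : V) j, T v j = dotProduct (v : Fin r → L) (jvec p L (x j)) := fun _ _ => rfl
  have hinj : Function.Injective T := by
    rw [injective_iff_map_eq_zero]
    rintro ⟨v, hv⟩ hTv
    obtain ⟨b, hb⟩ := IsLocalization.exist_integer_multiples
      (nonZeroDivisors (MvPowerSeries (Fin r) k ⧸ p)) (Finset.univ : Finset (Fin r)) v
    choose w hw using fun i => hb i (Finset.mem_univ i)
    have hb0 : algebraMap (MvPowerSeries (Fin r) k ⧸ p) L b ≠ 0 :=
      IsFractionRing.to_map_ne_zero_of_mem_nonZeroDivisors b.2
    let D : Derivation k (MvPowerSeries (Fin r) k) (MvPowerSeries (Fin r) k ⧸ p) :=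
      ∑ i, w i • (Algebra.linearMap (MvPowerSeries (Fin r) k) (MvPowerSeries (Fin r) k ⧸ p)).compDer
        (pderiv k i)
    have hD : ∀ f, D f = ∑ i, w i * Ideal.Quotient.mk p (pderiv k i f) := fun f => by
      change Derivation.coeFnAddMonoidHom D f = _
      simp [D, map_sum, Finset.sum_apply, Derivation.coeFnAddMonoidHom]
    have hDL : ∀ f, algebraMap (MvPowerSeries (Fin r) k ⧸ p) L (D f)
        = algebraMap (MvPowerSeries (Fin r) k ⧸ p) L b * dotProduct v (jvec p L f) := by
      intro f
      rw [hD, map_sum, dotProduct, Finset.mul_sum]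
      refine Finset.sum_congr rfl fun i _ => ?_
      rw [map_mul, ← mul_assoc]
      congr 1
      rw [hw i, Algebra.smul_def]
    have hinjL : Function.Injective (algebraMap (MvPowerSeries (Fin r) k ⧸ p) L) :=
      IsFractionRing.injective _ _
    have hDp : ∀ f ∈ p, D f = 0 := fun f hf => hinjL (by rw [hDL, hV v hv f hf, mul_zero, map_zero])
    -- the induced derivation of the quotient
    let δl : (MvPowerSeries (Fin r) k ⧸ p) →ₗ[k] (MvPowerSeries (Fin r) k ⧸ p) :=
      (Submodule.liftQ (p.restrictScalars k) D.toLinearMap fun f hf => hDp f hf) ∘ₗ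
        (Submodule.Quotient.restrictScalarsEquiv k p).symm.toLinearMap
    have hδl : ∀ f, δl (Ideal.Quotient.mk p f) = D f := fun f => rfl
    let δ : Derivation k (MvPowerSeries (Fin r) k ⧸ p) (MvPowerSeries (Fin r) k ⧸ p) :=
      Derivation.mk' δl fun a c => by
        obtain ⟨a, rfl⟩ := Ideal.Quotient.mk_surjective a
        obtain ⟨c, rfl⟩ := Ideal.Quotient.mk_surjective c
        rw [← map_mul, hδl, hδl, hδl, Derivation.leibniz]
        simp only [smul_eq_mul]
        rfl
    have hδX : ∀ j, δ (Φ (X j)) = 0 := fun j => by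
      rw [← hx j]
      change δl _ = 0
      rw [hδl]
      apply hinjL
      rw [hDL, map_zero, ← hT ⟨v, hv⟩ j, hTv, Pi.zero_apply, mul_zero]
    have hδS : δ.compAlgebraMap (MvPowerSeries (Fin s) k) = 0 := derivation_eq_zero _ fun j => hδX j
    have hδΦ : ∀ g, δ (Φ g) = 0 := fun g => DFunLike.congr_fun hδS g
    let δs : Derivation (MvPowerSeries (Fin s) k) (MvPowerSeries (Fin r) k ⧸ p) (MvPowerSeries (Fin r) k ⧸ p) :=
      Derivation.mk' { toFun := δ, map_add' := map_add δ, map_smul' := fun g a => by
                        rw [Algebra.smul_def, Derivation.leibniz, hδΦ, smul_zero, add_zero]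
                        simp [Algebra.smul_def] }
        fun a c => δ.leibniz a c
    have hδ0 : ∀ a, δ a = 0 := by
      intro a
      let y := algebraMap (MvPowerSeries (Fin r) k ⧸ p) L a
      have hsep : (minpoly L' y).Separable := Algebra.IsSeparable.isSeparable L' y
      have hint : IsIntegral L' y := Algebra.IsSeparable.isIntegral L' y
      let Q := IsLocalization.integerNormalization (nonZeroDivisors (MvPowerSeries (Fin s) k)) (minpoly L' y)
      obtain ⟨c, hc⟩ := IsLocalization.integerNormalization_map_to_map
        (nonZeroDivisors (MvPowerSeries (Fin s) k)) (minpoly L' y)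
      have haev : ∀ P : Polynomial (MvPowerSeries (Fin s) k),
          algebraMap (MvPowerSeries (Fin r) k ⧸ p) L (Polynomial.aeval a P)
            = Polynomial.aeval y (P.map (algebraMap (MvPowerSeries (Fin s) k) L')) := fun P => by
        rw [Polynomial.aeval_map_algebraMap, Polynomial.aeval_algebraMap_apply]
      have hQ0 : Polynomial.aeval a Q = 0 := by
        apply hinjL
        rw [haev, hc, ← algebraMap_smul L' c.1 (minpoly L' y), map_smul, minpoly.aeval, smul_zero, map_zero]
      have h1 := δs.map_aeval Q a
      rw [hQ0, map_zero, smul_eq_mul] at h1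
      have h2 : Polynomial.aeval a (Polynomial.derivative Q) ≠ 0 := by
        intro h0
        have h3 := haev (Polynomial.derivative Q)
        rw [h0, map_zero, ← Polynomial.derivative_map, hc, ← algebraMap_smul L' c.1 (minpoly L' y),
          Polynomial.derivative_smul, map_smul] at h3
        rcases smul_eq_zero.1 h3.symm with h4 | h4
        · exact IsFractionRing.to_map_ne_zero_of_mem_nonZeroDivisors c.2 h4
        · exact hsep.aeval_derivative_ne_zero (minpoly.aeval L' y) h4
      exact (mul_eq_zero.1 h1.symm).resolve_left h2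
    apply Subtype.ext
    funext i
    change v i = 0
    have hwi : w i = 0 := by
      have h1 : δ (Ideal.Quotient.mk p (X i)) = w i := by
        change δl _ = _
        rw [hδl, hD, Finset.sum_eq_single i]
        · rw [pderiv_X_self, map_one, mul_one]
        · intro l _ hl
          rw [pderiv_X_of_ne (Ne.symm hl), map_zero, mul_zero]
        · simp
      rw [← h1, hδ0]
    have h2 := hw i
    rw [hwi, map_zero, Algebra.smul_def] at h2
    exact (mul_eq_zero.1 h2.symm).resolve_left hb0
  have h1 := LinearMap.finrank_le_finrank_of_injective hinj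
  rw [Module.finrank_fin_fun] at h1
  have h2 : Module.finrank L V = Module.finrank L (jspan p L).dualAnnihilator :=
    (e.ofSubmodule' _).finrank_eq
  have h3 := Subspace.finrank_add_finrank_dualAnnihilator_eq (jspan p L)
  rw [Module.finrank_fin_fun] at h3
  omega

end H1JacPS
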