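import Mathlib
import Groth.Agent.H1JacPS.Rank
import Groth.Agent.H1JacPS.Quot
import Groth.Agent.H1RegPar.Basic
import Groth.Agent.CplFib6.DerivTower
import Groth.Agent.EGA41Lib.IntDim
import Groth.Agent.FormCat.Equidim
import Groth.Agent.S0564

/-!
# The Jacobian criterion at a separable prime of a power series ring
-/

set_option autoImplicit false
set_option backward.isDefEq.respectTransparency false
set_option backward.isDefEq.respectTransparency.types false

universe u

open IsLocalRing

namespace H1JacPS

/-- A derivation over any ring extends to a localization as an additive derivation. -/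
theorem exists_derivation_loc {S T U : Type u} [CommRing S] [CommRing T] [Algebra S T] [CommRing U] [Algebra T U]
    (M : Submonoid T) [IsLocalization M U] (D : Derivation S T T) :
    ∃ D' : Derivation ℤ U U, ∀ a, D' (algebraMap T U a) = algebraMap T U (D a) :=
  Groth.Agent.CplFib6.exists_derivation_localization M
    (Derivation.mk' D.toLinearMap.toAddMonoidHom.toIntLinearMap fun a b => D.leibniz a b)

variable {k : Type u} [Field k] {r : ℕ} (q p : Ideal (MvPowerSeries (Fin r) k)) [p.IsPrime]


variable (L : Type u) [Field L] [Algebra ((MvPowerSeries (Fin r) k) ⧸ p) L]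

theorem mem_maximal {a : (MvPowerSeries (Fin r) k)} (ha : a ∈ p) : algebraMap (MvPowerSeries (Fin r) k) (Localization.AtPrime p) a ∈ maximalIdeal (Localization.AtPrime p) := by
  rw [← Localization.AtPrime.map_eq_maximalIdeal]
  exact Ideal.mem_map_of_mem _ ha

/-- The cotangent class at `p` of an element of `p`. -/
noncomputable def cls (a : p) : CotangentSpace (Localization.AtPrime p) :=
  (maximalIdeal (Localization.AtPrime p)).toCotangent ⟨algebraMap (MvPowerSeries (Fin r) k) (Localization.AtPrime p) a, mem_maximal p a.2⟩

theorem exists_mul_mem_sq {a : (MvPowerSeries (Fin r) k)} (h : algebraMap (MvPowerSeries (Fin r) k) (Localization.AtPrime p) a ∈ maximalIdeal (Localization.AtPrime p) ^ 2) :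
    ∃ u ∉ p, u * a ∈ p ^ 2 := by
  rw [← Localization.AtPrime.map_eq_maximalIdeal, ← Ideal.map_pow,
    IsLocalization.algebraMap_mem_map_algebraMap_iff p.primeCompl] at h
  exact h

theorem span_map_eq_maximal : Ideal.span (Set.range fun a : p => algebraMap (MvPowerSeries (Fin r) k) (Localization.AtPrime p) a) = maximalIdeal (Localization.AtPrime p) := by
  have h := Localization.AtPrime.map_eq_maximalIdeal (I := p)
  rw [Ideal.map] at h
  rw [← h]
  congr 1
  ext x
  simp

theorem span_cls : Submodule.span (ResidueField (Localization.AtPrime p)) (Set.range (cls p)) = ⊤ := by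
  refine Groth.Agent.HomDimLib.span_toCotangent_eq_top
    (fun a : p => (⟨algebraMap (MvPowerSeries (Fin r) k) (Localization.AtPrime p) a, mem_maximal p a.2⟩ : maximalIdeal (Localization.AtPrime p))) ?_
  exact span_map_eq_maximal p

variable [IsFractionRing ((MvPowerSeries (Fin r) k) ⧸ p) L]

theorem nu_ne_zero {a : (MvPowerSeries (Fin r) k)} (ha : a ∉ p) : algebraMap ((MvPowerSeries (Fin r) k) ⧸ p) L (Ideal.Quotient.mk p a) ≠ 0 :=
  (map_ne_zero_iff _ (IsFractionRing.injective ((MvPowerSeries (Fin r) k) ⧸ p) L)).2 fun h => ha (Ideal.Quotient.eq_zero_iff_mem.1 h)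

/-- Elements of `p` with independent gradients have independent cotangent classes. -/
theorem cls_indep {ι : Type*} [Fintype ι] (f : ι → p)
    (hf : LinearIndependent L fun i => jvec p L (f i : (MvPowerSeries (Fin r) k))) :
    LinearIndependent (ResidueField (Localization.AtPrime p)) fun i => cls p (f i) := by
  classical
  rw [Fintype.linearIndependent_iff]
  intro g hg
  choose g' hg' using fun i => residue_surjective (g i)
  obtain ⟨b, hb⟩ := IsLocalization.exist_integer_multiples p.primeCompl (Finset.univ : Finset ι) g'
  choose a ha using fun i => hb i (Finset.mem_univ i)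
  have hmem : ∑ i, g' i * algebraMap (MvPowerSeries (Fin r) k) (Localization.AtPrime p) (f i : (MvPowerSeries (Fin r) k)) ∈ maximalIdeal (Localization.AtPrime p) ^ 2 := by
    have h0 : (maximalIdeal (Localization.AtPrime p)).toCotangent
        (∑ i, g' i • ⟨algebraMap (MvPowerSeries (Fin r) k) (Localization.AtPrime p) (f i : (MvPowerSeries (Fin r) k)), mem_maximal p (f i).2⟩) = 0 := by
      rw [← hg, map_sum]
      refine Finset.sum_congr rfl fun i _ => ?_
      rw [map_smul, ← hg' i]
      exact (algebraMap_smul (ResidueField (Localization.AtPrime p)) (g' i) (cls p (f i))).symm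
    have h1 := (Ideal.toCotangent_eq_zero _ _).1 h0
    simpa [Submodule.coe_sum] using h1
  have hmem' : algebraMap (MvPowerSeries (Fin r) k) (Localization.AtPrime p) (∑ i, a i * (f i : (MvPowerSeries (Fin r) k))) ∈ maximalIdeal (Localization.AtPrime p) ^ 2 := by
    have e : algebraMap (MvPowerSeries (Fin r) k) (Localization.AtPrime p) (∑ i, a i * (f i : (MvPowerSeries (Fin r) k))) =
        algebraMap (MvPowerSeries (Fin r) k) (Localization.AtPrime p) b * ∑ i, g' i * algebraMap (MvPowerSeries (Fin r) k) (Localization.AtPrime p) (f i : (MvPowerSeries (Fin r) k)) := by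
      rw [map_sum, Finset.mul_sum]
      refine Finset.sum_congr rfl fun i _ => ?_
      rw [map_mul, ha i, Algebra.smul_def, mul_assoc]
    rw [e]; exact Ideal.mul_mem_left _ _ hmem
  obtain ⟨u, hu, hu'⟩ := exists_mul_mem_sq p hmem'
  have h0 := jvec_sq p L hu'
  rw [jvec_mul p L u _ (Ideal.sum_mem _ fun i _ => Ideal.mul_mem_left _ _ (f i).2), jvec_sum,
    smul_eq_zero_iff_right (nu_ne_zero p L hu)] at h0
  rw [Finset.sum_congr rfl fun i _ => jvec_mul p L (a i) (f i : (MvPowerSeries (Fin r) k)) (f i).2] at h0
  intro i
  have hai := Fintype.linearIndependent_iff.1 hf _ h0 i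
  rw [← hg' i, residue_eq_zero_iff]
  have hap : a i ∈ p := by
    by_contra h
    exact nu_ne_zero p L h hai
  have h3 : algebraMap (MvPowerSeries (Fin r) k) (Localization.AtPrime p) b * g' i ∈ maximalIdeal (Localization.AtPrime p) := by
    rw [← Algebra.smul_def, ← ha i]; exact mem_maximal p hap
  exact (Ideal.unit_mul_mem_iff_mem _ (IsLocalization.map_units (Localization.AtPrime p) b)).1 h3

theorem jspan_le {ι : Type*} [Fintype ι] (y : ι → p)
    (hy : Submodule.span (ResidueField (Localization.AtPrime p)) (Set.range fun i => cls p (y i)) = ⊤) :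
    jspan p L ≤ Submodule.span L (Set.range fun i => jvec p L (y i : (MvPowerSeries (Fin r) k))) := by
  classical
  have hgen : Ideal.span (Set.range fun i => algebraMap (MvPowerSeries (Fin r) k) (Localization.AtPrime p) (y i : (MvPowerSeries (Fin r) k))) = maximalIdeal (Localization.AtPrime p) :=
    Groth.Agent.HomDimLib.span_eq_of_toCotangent_eq_top
      (fun i => (⟨algebraMap (MvPowerSeries (Fin r) k) (Localization.AtPrime p) (y i : (MvPowerSeries (Fin r) k)), mem_maximal p (y i).2⟩ : maximalIdeal (Localization.AtPrime p))) hy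
  rw [jspan, Submodule.span_le]
  rintro _ ⟨x, hx, rfl⟩
  have hx' : algebraMap (MvPowerSeries (Fin r) k) (Localization.AtPrime p) x ∈ (Ideal.span (Set.range fun i => (y i : (MvPowerSeries (Fin r) k)))).map (algebraMap (MvPowerSeries (Fin r) k) (Localization.AtPrime p)) := by
    rw [Ideal.map_span, ← Set.range_comp]
    exact hgen.ge (mem_maximal p hx)
  obtain ⟨u, hu, hu'⟩ := (IsLocalization.algebraMap_mem_map_algebraMap_iff p.primeCompl (Localization.AtPrime p) _ _).1 hx'
  obtain ⟨c, hc⟩ := Ideal.mem_span_range_iff_exists_fun.1 hu'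
  have h := congrArg (jvec p L) hc
  rw [jvec_mul p L u x hx, jvec_sum] at h
  rw [SetLike.mem_coe, ← Submodule.smul_mem_iff _ (nu_ne_zero p L hu), ← h]
  refine Submodule.sum_mem _ fun i _ => ?_
  rw [jvec_mul p L _ _ (y i).2]
  exact Submodule.smul_mem _ _ (Submodule.subset_span ⟨i, rfl⟩)

variable {s : ℕ} [Algebra (MvPowerSeries (Fin s) k) ((MvPowerSeries (Fin r) k) ⧸ p)]
  [IsScalarTower k (MvPowerSeries (Fin s) k) ((MvPowerSeries (Fin r) k) ⧸ p)]
  [Module.Finite (MvPowerSeries (Fin s) k) ((MvPowerSeries (Fin r) k) ⧸ p)]
  (hinj : Function.Injective (algebraMap (MvPowerSeries (Fin s) k) ((MvPowerSeries (Fin r) k) ⧸ p)))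
  (L' : Type u) [Field L'] [Algebra (MvPowerSeries (Fin s) k) L'] [IsFractionRing (MvPowerSeries (Fin s) k) L']
  [Algebra L' L] [Algebra (MvPowerSeries (Fin s) k) L]
  [IsScalarTower (MvPowerSeries (Fin s) k) ((MvPowerSeries (Fin r) k) ⧸ p) L]
  [IsScalarTower (MvPowerSeries (Fin s) k) L' L] [Algebra.IsSeparable L' L]

instance : IsRegularLocalRing (MvPowerSeries (Fin r) k) := Groth.Agent.PSLib.isRegularLocalRing k r

include hinj in
theorem finrank_cotangent_add [IsRegularLocalRing (Localization.AtPrime p)] :
    s + Module.finrank (ResidueField (Localization.AtPrime p)) (CotangentSpace (Localization.AtPrime p)) = r := by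
  have h := Groth.Agent.FormCat.height_add_ringKrullDim_quotient_regular (MvPowerSeries (Fin r) k) p (Ideal.IsPrime.ne_top inferInstance)
  rw [Groth.Agent.EGA41Lib.ringKrullDim_eq_of_integral (A := MvPowerSeries (Fin s) k) hinj,
    Groth.Agent.PSLib.ringKrullDim_eq, Groth.Agent.PSLib.ringKrullDim_eq,
    ← IsLocalization.AtPrime.ringKrullDim_eq_height p (Localization.AtPrime p), ← (isRegularLocalRing_iff (Localization.AtPrime p)).1 inferInstance,
    spanFinrank_maximalIdeal_eq_finrank_cotangentSpace] at h
  exact_mod_cast h

include hinj L' in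
/-- Elements of `p` with independent cotangent classes have independent gradients. -/
theorem jvec_indep [IsRegularLocalRing (Localization.AtPrime p)] {m : ℕ} (f : Fin m → p)
    (hf : LinearIndependent (ResidueField (Localization.AtPrime p)) fun i => cls p (f i)) :
    LinearIndependent L fun i => jvec p L (f i : (MvPowerSeries (Fin r) k)) := by
  classical
  obtain ⟨B, hBsub, hB0, hBspan, hBli⟩ := exists_linearIndepOn_id_extension (t := Set.range (cls p))
    hf.linearIndepOn_id
    (Set.range_subset_iff.2 fun i => (⟨f i, rfl⟩ : cls p (f i) ∈ Set.range (cls p)))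
  have hspan : Submodule.span (ResidueField (Localization.AtPrime p)) B = ⊤ := by
    rw [eq_top_iff, ← span_cls p, Submodule.span_le]
    exact hBspan
  haveI : Fintype B := (LinearIndependent.setFinite hBli).fintype
  -- lifts, using `f` where possible
  have hlift : ∀ b : B, ∃ y : p, cls p y = b ∧ ∀ i, cls p (f i) = b → y = f i := by
    intro b
    by_cases h : ∃ i, cls p (f i) = b
    · obtain ⟨i, hi⟩ := h
      refine ⟨f i, hi, fun j hj => ?_⟩
      rw [hf.injective (hi.trans hj.symm)]
    · obtain ⟨y, hy⟩ := hBsub b.2
      exact ⟨y, hy, fun i hi => absurd ⟨i, hi⟩ h⟩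
  choose y hy hyf using hlift
  have hy' : Submodule.span (ResidueField (Localization.AtPrime p)) (Set.range fun b => cls p (y b)) = ⊤ := by
    rw [show (fun b => cls p (y b)) = ((↑) : B → CotangentSpace (Localization.AtPrime p)) from funext hy, Subtype.range_coe]
    exact hspan
  have h1 := le_finrank_jspan p L (s := s) L'
  have h2 := Submodule.finrank_mono (jspan_le p L y hy')
  have hcard : Fintype.card B = Module.finrank (ResidueField (Localization.AtPrime p)) (CotangentSpace (Localization.AtPrime p)) := by
    rw [← finrank_top (R := ResidueField (Localization.AtPrime p)) (M := CotangentSpace (Localization.AtPrime p)), ← hspan]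
    exact ((finrank_span_set_eq_card hBli).trans (by simp)).symm
  have h3 := finrank_cotangent_add p hinj
  have hJ : LinearIndependent L fun b : B => jvec p L (y b : (MvPowerSeries (Fin r) k)) := by
    rw [linearIndependent_iff_card_le_finrank_span, Set.finrank]
    omega
  have hidx : ∀ i, cls p (f i) ∈ B := fun i => hB0 ⟨i, rfl⟩
  have := hJ.comp (fun i => (⟨cls p (f i), hidx i⟩ : B))
    (fun i j h => hf.injective (congrArg Subtype.val h))
  convert this using 1
  funext i
  rw [Function.comp_apply, hyf ⟨cls p (f i), hidx i⟩ i rfl]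

/-- A square submatrix with nonzero determinant. -/
theorem exists_rows {m : ℕ} (v : Fin m → Fin r → L) (hv : LinearIndependent L v) :
    ∃ ι : Fin m → Fin r, Matrix.det (Matrix.of fun i j => v j (ι i)) ≠ 0 := by
  classical
  let M : Matrix (Fin r) (Fin m) L := Matrix.of fun a j => v j a
  have hrank : M.rank = m := by
    rw [Matrix.rank_eq_finrank_span_cols, show Set.range M.col = Set.range v from rfl,
      finrank_span_eq_card hv, Fintype.card_fin]
  rw [Matrix.rank_eq_finrank_span_row] at hrank
  obtain ⟨B, hBsub, hBspan, hBli⟩ := exists_linearIndependent L (Set.range M.row)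
  haveI : Fintype B := (LinearIndependent.setFinite hBli).fintype
  have hcard : Fintype.card B = m := by
    rw [← hBspan] at hrank
    exact (((finrank_span_set_eq_card hBli).trans (by simp)).symm.trans hrank)
  let e : Fin m ≃ B := (Fintype.equivFinOfCardEq hcard).symm
  choose ι hι using fun i => hBsub (e i).2
  refine ⟨ι, fun hdet => ?_⟩
  have hrows : LinearIndependent L (Matrix.of fun i j => v j (ι i)).row := by
    have := hBli.comp e e.injective
    rw [show (Matrix.of fun i j => v j (ι i)).row = ((↑) : B → Fin m → L) ∘ e from funext hι]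
    exact this
  rw [Matrix.linearIndependent_rows_iff_isUnit] at hrows
  exact ((Matrix.isUnit_iff_isUnit_det _).1 hrows).ne_zero hdet

/-- The localization of the quotient is the quotient of the localization. -/
theorem nonempty_equiv (hqp : q ≤ p) [(p.map (Ideal.Quotient.mk q)).IsPrime] :
    Nonempty (Localization.AtPrime (p.map (Ideal.Quotient.mk q)) ≃+* (Localization.AtPrime p) ⧸ q.map (algebraMap (MvPowerSeries (Fin r) k) (Localization.AtPrime p))) := by
  have hloc : IsLocalization (p.map (Ideal.Quotient.mk q)).primeCompl ((Localization.AtPrime p) ⧸ q.map (algebraMap (MvPowerSeries (Fin r) k) (Localization.AtPrime p))) := by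
    have e : (p.map (Ideal.Quotient.mk q)).primeCompl = Algebra.algebraMapSubmonoid ((MvPowerSeries (Fin r) k) ⧸ q) p.primeCompl := by
      ext x
      obtain ⟨a, rfl⟩ := Ideal.Quotient.mk_surjective x
      constructor
      · intro h
        exact ⟨a, fun ha => h (Ideal.mem_map_of_mem _ ha), rfl⟩
      · rintro ⟨b, hb, hba⟩ h
        apply hb
        have hba' : Ideal.Quotient.mk q b = Ideal.Quotient.mk q a := hba
        rw [← hba', SetLike.mem_coe, Ideal.mem_quotient_iff_mem hqp] at h
        exact h
    rw [e]; infer_instance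
  exact ⟨(IsLocalization.algEquiv (p.map (Ideal.Quotient.mk q)).primeCompl
    (Localization.AtPrime (p.map (Ideal.Quotient.mk q))) ((Localization.AtPrime p) ⧸ q.map (algebraMap (MvPowerSeries (Fin r) k) (Localization.AtPrime p)))).toRingEquiv⟩

include hinj L' L in
theorem regular_iff (hqp : q ≤ p) [(p.map (Ideal.Quotient.mk q)).IsPrime] :
    IsRegularLocalRing (Localization.AtPrime (p.map (Ideal.Quotient.mk q))) ↔
      ∃ (m : ℕ) (D : Fin m → Derivation k (MvPowerSeries (Fin r) k) (MvPowerSeries (Fin r) k)) (f : Fin m → (MvPowerSeries (Fin r) k)), (∀ i, f i ∈ q) ∧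
        q.map (algebraMap (MvPowerSeries (Fin r) k) (Localization.AtPrime p)) = Ideal.span (Set.range fun i => algebraMap (MvPowerSeries (Fin r) k) (Localization.AtPrime p) (f i)) ∧
        Matrix.det (Matrix.of fun i j => D i (f j)) ∉ p := by
  classical
  haveI : IsRegularLocalRing (Localization.AtPrime p) := Groth.Agent.S0564.result _ p
  obtain ⟨E⟩ := nonempty_equiv q p hqp
  constructor
  · intro hreg
    haveI := hreg
    haveI : IsRegularLocalRing ((Localization.AtPrime p) ⧸ q.map (algebraMap (MvPowerSeries (Fin r) k) (Localization.AtPrime p))) := IsRegularLocalRing.of_ringEquiv (R := Localization.AtPrime (p.map (Ideal.Quotient.mk q))) E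
    let t : Set (CotangentSpace (Localization.AtPrime p)) := Set.range fun a : q => cls p ⟨a, hqp a.2⟩
    obtain ⟨B, hBsub, hBspan, hBli⟩ := exists_linearIndependent (ResidueField (Localization.AtPrime p)) t
    haveI : Fintype B := (LinearIndependent.setFinite hBli).fintype
    let e : Fin (Fintype.card B) ≃ B := (Fintype.equivFin B).symm
    choose a ha using fun i => hBsub (e i).2
    let f : Fin (Fintype.card B) → p := fun i => ⟨a i, hqp (a i).2⟩
    have hcf : LinearIndependent (ResidueField (Localization.AtPrime p)) fun i => cls p (f i) := by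
      have := hBli.comp e e.injective
      convert this using 1
      funext i
      exact ha i
    obtain ⟨ι, hι⟩ := exists_rows L _ (jvec_indep p L hinj L' f hcf)
    refine ⟨_, fun i => MvPowerSeries.pderiv k (ι i), fun i => (a i : (MvPowerSeries (Fin r) k)), fun i => (a i).2, ?_, ?_⟩
    · refine eq_span_of_regular_quot (q.map (algebraMap (MvPowerSeries (Fin r) k) (Localization.AtPrime p)))
        (fun i => (⟨algebraMap (MvPowerSeries (Fin r) k) (Localization.AtPrime p) (f i : (MvPowerSeries (Fin r) k)), mem_maximal p (f i).2⟩ : maximalIdeal (Localization.AtPrime p)))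
        (fun i => Ideal.mem_map_of_mem _ (a i).2) hcf ?_
      rw [Ideal.map_le_iff_le_comap]
      intro x hx
      have hxt : cls p ⟨x, hqp hx⟩ ∈ Submodule.span (ResidueField (Localization.AtPrime p)) (Set.range fun i => cls p (f i)) := by
        have h1 : (fun i => cls p (f i)) = ((↑) : B → CotangentSpace (Localization.AtPrime p)) ∘ e := funext ha
        rw [h1, Set.range_comp, e.surjective.range_eq, Set.image_univ, Subtype.range_coe, hBspan]
        exact Submodule.subset_span ⟨⟨x, hx⟩, rfl⟩
      obtain ⟨g, hg⟩ := (Submodule.mem_span_range_iff_exists_fun _).1 hxt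
      choose g' hg' using fun i => residue_surjective (g i)
      have hmem : algebraMap (MvPowerSeries (Fin r) k) (Localization.AtPrime p) x - ∑ i, g' i * algebraMap (MvPowerSeries (Fin r) k) (Localization.AtPrime p) (f i : (MvPowerSeries (Fin r) k)) ∈ maximalIdeal (Localization.AtPrime p) ^ 2 := by
        have h0 : (maximalIdeal (Localization.AtPrime p)).toCotangent (⟨algebraMap (MvPowerSeries (Fin r) k) (Localization.AtPrime p) x, mem_maximal p (hqp hx)⟩ -
            ∑ i, g' i • ⟨algebraMap (MvPowerSeries (Fin r) k) (Localization.AtPrime p) (f i : (MvPowerSeries (Fin r) k)), mem_maximal p (f i).2⟩) = 0 := by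
          rw [map_sub, sub_eq_zero, map_sum]
          refine hg.symm.trans (Finset.sum_congr rfl fun i _ => ?_)
          rw [map_smul, ← hg' i]
          exact algebraMap_smul (ResidueField (Localization.AtPrime p)) (g' i) (cls p (f i))
        have h1 := (Ideal.toCotangent_eq_zero _ _).1 h0
        simpa [Submodule.coe_sum] using h1
      rw [Ideal.mem_comap, show algebraMap (MvPowerSeries (Fin r) k) (Localization.AtPrime p) x =
        (∑ i, g' i * algebraMap (MvPowerSeries (Fin r) k) (Localization.AtPrime p) (f i : (MvPowerSeries (Fin r) k))) + (algebraMap (MvPowerSeries (Fin r) k) (Localization.AtPrime p) x - ∑ i, g' i * algebraMap (MvPowerSeries (Fin r) k) (Localization.AtPrime p) (f i : (MvPowerSeries (Fin r) k))) by ring]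
      exact Submodule.add_mem_sup (Ideal.sum_mem _ fun i _ => Ideal.mul_mem_left _ _
        (Ideal.subset_span (Set.mem_range_self i))) hmem
    · intro h
      apply hι
      let ν : (MvPowerSeries (Fin r) k) →+* L := (algebraMap ((MvPowerSeries (Fin r) k) ⧸ p) L).comp (Ideal.Quotient.mk p)
      have h1 : ν (Matrix.of fun i j => MvPowerSeries.pderiv k (ι i) (a j : (MvPowerSeries (Fin r) k))).det = 0 := by
        change algebraMap ((MvPowerSeries (Fin r) k) ⧸ p) L (Ideal.Quotient.mk p _) = 0
        rw [Ideal.Quotient.eq_zero_iff_mem.2 h, map_zero]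
      rw [RingHom.map_det] at h1
      exact h1
  · rintro ⟨m, D, f, hfq, hspan, hdet⟩
    choose D' hD' using fun i => exists_derivation_loc (U := Localization.AtPrime p) p.primeCompl (D i)
    let F : Fin m → maximalIdeal (Localization.AtPrime p) := fun i => ⟨algebraMap (MvPowerSeries (Fin r) k) (Localization.AtPrime p) (f i), mem_maximal p (hqp (hfq i))⟩
    have hli := H1RegPar.linearIndependent_of_derivations F D' (by
      have e : Matrix.of (fun i j => D' i (F j : (Localization.AtPrime p))) = (Matrix.of fun i j => D i (f j)).map (algebraMap (MvPowerSeries (Fin r) k) (Localization.AtPrime p)) := by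
        ext i j
        exact hD' i (f j)
      rw [e, ← RingHom.mapMatrix_apply, ← RingHom.map_det]
      exact IsLocalization.map_units (Localization.AtPrime p) (⟨_, hdet⟩ : p.primeCompl))
    haveI h := (H1RegPar.isRegular_of_linearIndependent F hli).1
    haveI : IsRegularLocalRing ((Localization.AtPrime p) ⧸ q.map (algebraMap (MvPowerSeries (Fin r) k) (Localization.AtPrime p))) :=
      IsRegularLocalRing.of_ringEquiv (R := Localization.AtPrime p ⧸ Ideal.span (Set.range fun i => algebraMap (MvPowerSeries (Fin r) k) (Localization.AtPrime p) (f i))) (Ideal.quotEquivOfEq hspan.symm)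
    exact IsRegularLocalRing.of_ringEquiv (R := Localization.AtPrime p ⧸ q.map (algebraMap (MvPowerSeries (Fin r) k) (Localization.AtPrime p))) E.symm

end H1JacPS
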